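import Groth.Agent.Lib.CohBasics.Affine
import Groth.Agent.Lib.QCoh.Closure
import Mathlib.AlgebraicGeometry.Noetherian

/-!
# Closure properties of coherent modules on a locally Noetherian scheme
-/

set_option linter.style.haveILetI false

universe u

open CategoryTheory Limits AlgebraicGeometry Opposite TopologicalSpace

namespace Groth.Agent.Lib.CohBasics.Closure

open Groth.Agent.Lib Groth.Agent.Lib.CohBasics.Affine

variable {X : Scheme.{u}} {M N P : X.Modules}

lemma finite_sections (hM : Coh.IsCoh M) {U : X.Opens} (hU : IsAffineOpen U) :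
    Module.Finite Γ(X, U) Γ(M, U) :=
  haveI := hM.1
  haveI := hM.2
  Affine.finite_sections hU

lemma isCoh_of_finite_sections [M.IsQuasicoherent]
    (h : ∀ U : X.Opens, IsAffineOpen U → Module.Finite Γ(X, U) Γ(M, U)) : Coh.IsCoh M := by
  refine ⟨‹_›, isFiniteType_of_finite_sections fun x => ?_⟩
  obtain ⟨U, hU, hx, -⟩ := exists_isAffineOpen_mem_and_subset (X := X) (x := x) (U := ⊤) trivial
  exact ⟨U, hU, hx, h U hU⟩

lemma isQCoh_of_iso (e : M ≅ N) [M.IsQuasicoherent] : N.IsQuasicoherent :=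
  (SheafOfModules.isQuasicoherent X.ringCatSheaf).prop_of_iso e ‹_›

lemma isCoh_of_epi (φ : M ⟶ N) [Epi φ] [N.IsQuasicoherent] (hM : Coh.IsCoh M) : Coh.IsCoh N :=
  isCoh_of_finite_sections fun U hU =>
    haveI := finite_sections hM hU
    haveI := hM.1
    Module.Finite.of_surjective (secₗ φ U) (QCoh.Closure.sections_surjective_of_epi φ hU)

lemma isCoh_of_iso (e : M ≅ N) (hM : Coh.IsCoh M) : Coh.IsCoh N :=
  haveI := hM.1
  haveI := isQCoh_of_iso e
  isCoh_of_epi e.hom hM

lemma isCoh_cokernel (φ : M ⟶ N) (hM : Coh.IsQCoh M) (hN : Coh.IsCoh N) :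
    Coh.IsCoh (cokernel φ) :=
  haveI := hM
  haveI := hN.1
  haveI := QCoh.Closure.isQCoh_cokernel φ
  isCoh_of_epi (cokernel.π φ) hN

lemma isCoh_biprod (hM : Coh.IsCoh M) (hN : Coh.IsCoh N) : Coh.IsCoh (M ⊞ N) := by
  haveI := hM.1
  haveI := hN.1
  haveI : (M ⊞ N).IsQuasicoherent := QCoh.Closure.isQCoh_biprod
  refine isCoh_of_finite_sections fun U hU => ?_
  haveI := finite_sections hM hU
  haveI := finite_sections hN hU
  refine Module.Finite.of_surjective
    ((secₗ (biprod.inl : M ⟶ M ⊞ N) U).coprod (secₗ (biprod.inr : N ⟶ M ⊞ N) U)) fun s => ?_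
  refine ⟨((biprod.fst : M ⊞ N ⟶ M).app U s, (biprod.snd : M ⊞ N ⟶ N).app U s), ?_⟩
  have := congrArg (fun φ : M ⊞ N ⟶ M ⊞ N => φ.app U s)
    (biprod.total (X := M) (Y := N))
  exact this

variable [IsLocallyNoetherian X]

lemma isCoh_of_mono (φ : M ⟶ N) [Mono φ] [M.IsQuasicoherent] (hN : Coh.IsCoh N) : Coh.IsCoh M :=
  isCoh_of_finite_sections fun U hU =>
    haveI := IsLocallyNoetherian.component_noetherian (X := X) ⟨U, hU⟩
    haveI := finite_sections hN hU
    Module.Finite.of_injective (secₗ φ U) (QCoh.Closure.sections_injective_of_mono φ U)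

lemma isCoh_kernel (φ : M ⟶ N) (hM : Coh.IsCoh M) (hN : Coh.IsQCoh N) : Coh.IsCoh (kernel φ) :=
  haveI := hM.1
  haveI := hN
  haveI := QCoh.Closure.isQCoh_kernel φ
  isCoh_of_mono (kernel.ι φ) hM

lemma isCoh_image (φ : M ⟶ N) (hM : Coh.IsQCoh M) (hN : Coh.IsCoh N) :
    Coh.IsCoh (Abelian.image φ) :=
  isCoh_kernel (cokernel.π φ) hN (isCoh_cokernel φ hM hN).1

lemma isCoh_pullback (f : M ⟶ P) (g : N ⟶ P) (hM : Coh.IsCoh M) (hN : Coh.IsCoh N)
    (hP : Coh.IsQCoh P) : Coh.IsCoh (pullback f g) := by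
  haveI := hM.1
  haveI := hN.1
  haveI := hP
  let φ : M ⊞ N ⟶ P := biprod.fst ≫ f - biprod.snd ≫ g
  refine isCoh_of_iso ?_ (isCoh_kernel φ (isCoh_biprod hM hN) hP)
  refine
    { hom := pullback.lift (kernel.ι φ ≫ biprod.fst) (kernel.ι φ ≫ biprod.snd) ?_
      inv := kernel.lift φ (biprod.lift (pullback.fst f g) (pullback.snd f g)) ?_
      hom_inv_id := ?_
      inv_hom_id := ?_ }
  · have := kernel.condition φ
    simp only [φ, Preadditive.comp_sub, sub_eq_zero] at this
    simpa only [Category.assoc] using this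
  · simp [φ, Preadditive.comp_sub, pullback.condition]
  · rw [← cancel_mono (kernel.ι φ)]
    apply biprod.hom_ext <;> simp only [Category.assoc, kernel.lift_ι, biprod.lift_fst, biprod.lift_snd, Category.id_comp] <;> first | exact pullback.lift_fst _ _ _ | exact pullback.lift_snd _ _ _
  · apply pullback.hom_ext <;> simp only [Category.assoc, Category.id_comp]
    · exact (congrArg _ (pullback.lift_fst _ _ _)).trans (by simp)
    · exact (congrArg _ (pullback.lift_snd _ _ _)).trans (by simp)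

end Groth.Agent.Lib.CohBasics.Closure
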