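import Groth.Prelude.Def_Coh
import Groth.Prelude.Def_FlatMod2
import Groth.Agent.Lib.Modules.Free
import Groth.Agent.Lib.Modules.StalkRestrict
import Groth.Agent.Lib.Modules.GenStalk
import Groth.Agent.Lib.StalkLoc.Basic
import Mathlib.RingTheory.Finiteness.Basic

/-!
# Sections of quasi-coherent modules on affine opens and finite type

Membership in a submodule of sections is checked on germs; a quasi-coherent module is of finite type
iff its sections on small affine opens are finite, and then they are finite on every affine open.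
-/

set_option linter.style.haveILetI false

universe u

open CategoryTheory Limits AlgebraicGeometry Opposite TopologicalSpace

namespace Groth.Agent.Lib.CohBasics.Affine

open Groth.Agent.Lib

variable {X : Scheme.{u}} {M N : X.Modules} {U : X.Opens}

/-- A morphism on sections over `U`, linear over `Γ(X, U)`. -/
noncomputable def secₗ (φ : M ⟶ N) (U : X.Opens) : Γ(M, U) →ₗ[Γ(X, U)] Γ(N, U) where
  toFun := φ.app U
  map_add' := map_add _
  map_smul' r s := φ.app_smul r s

@[simp] lemma secₗ_apply (φ : M ⟶ N) (U : X.Opens) (s : Γ(M, U)) : secₗ φ U s = φ.app U s := rfl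

/-- An ideal of functions meeting the complement of every prime of an affine open is everything. -/
lemma ideal_eq_top (hU : IsAffineOpen U) (I : Ideal Γ(X, U))
    (h : ∀ x ∈ U, ∃ f ∈ I, x ∈ X.basicOpen f) : I = ⊤ := by
  rw [← I.span_eq, ← hU.iSup_basicOpen_eq_self_iff]
  refine le_antisymm (iSup_le fun f => X.basicOpen_le _) fun x hx => ?_
  obtain ⟨f, hfI, hxf⟩ := h x hx
  exact Opens.mem_iSup.mpr ⟨⟨f, hfI⟩, hxf⟩

/-- The span of the germs of a submodule of sections consists of fractions. -/
lemma exists_smul_eq_of_mem_span (hU : IsAffineOpen U) {x : X} (hx : x ∈ U)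
    (P : Submodule Γ(X, U) Γ(M, U)) {v : M.presheaf.stalk x}
    (hv : v ∈ Submodule.span (X.presheaf.stalk x) (M.presheaf.germ U x hx '' (P : Set Γ(M, U)))) :
    ∃ f : Γ(X, U), x ∈ X.basicOpen f ∧ ∃ t ∈ P,
      X.presheaf.germ U x hx f • v = M.presheaf.germ U x hx t := by
  induction hv using Submodule.span_induction with
  | mem v hv =>
    obtain ⟨t, ht, rfl⟩ := hv
    exact ⟨1, (X.mem_basicOpen _ x hx).mpr (by rw [map_one]; exact isUnit_one), t, ht,
      by rw [map_one, one_smul]⟩
  | zero =>
    exact ⟨1, (X.mem_basicOpen _ x hx).mpr (by rw [map_one]; exact isUnit_one), 0, P.zero_mem,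
      by rw [map_one, one_smul, map_zero]⟩
  | add v w _ _ hv hw =>
    obtain ⟨f, hf, t, ht, e⟩ := hv
    obtain ⟨g, hg, s, hs, e'⟩ := hw
    refine ⟨f * g, ?_, g • t + f • s, P.add_mem (P.smul_mem g ht) (P.smul_mem f hs), ?_⟩
    · rw [Scheme.basicOpen_mul]; exact ⟨hf, hg⟩
    · rw [map_mul, smul_add, map_add, Modules.StalkModule.germ_smul, Modules.StalkModule.germ_smul,
        ← e, ← e', mul_smul, mul_smul,
        smul_comm (X.presheaf.germ U x hx f) (X.presheaf.germ U x hx g) v]
  | smul a v _ hv =>
    obtain ⟨f, hf, t, ht, e⟩ := hv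
    letI := TopCat.Presheaf.algebra_section_stalk X.presheaf (⟨x, hx⟩ : U)
    haveI := hU.isLocalization_stalk ⟨x, hx⟩
    obtain ⟨⟨r, g⟩, hg⟩ := IsLocalization.surj (hU.primeIdealOf ⟨x, hx⟩).asIdeal.primeCompl a
    have hg' : a * X.presheaf.germ U x hx g.1 = X.presheaf.germ U x hx r := hg
    have hgx : x ∈ X.basicOpen g.1 := (X.mem_basicOpen _ x hx).mpr
      (IsLocalization.map_units (X.presheaf.stalk x) g)
    refine ⟨f * g.1, ?_, r • t, P.smul_mem r ht, ?_⟩
    · rw [Scheme.basicOpen_mul]; exact ⟨hf, hgx⟩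
    · rw [Modules.StalkModule.germ_smul, ← e, ← hg', map_mul, smul_smul, smul_smul]
      congr 1
      ring

/-- A section lies in a submodule as soon as all its germs lie in the span of the germs. -/
lemma mem_of_germ_mem [M.IsQuasicoherent] (hU : IsAffineOpen U) (P : Submodule Γ(X, U) Γ(M, U))
    (s : Γ(M, U))
    (h : ∀ (x : X) (hx : x ∈ U), M.presheaf.germ U x hx s ∈
      Submodule.span (X.presheaf.stalk x) (M.presheaf.germ U x hx '' (P : Set Γ(M, U)))) :
    s ∈ P := by
  have htop : P.comap (LinearMap.toSpanSingleton Γ(X, U) Γ(M, U) s) = ⊤ := by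
    refine ideal_eq_top hU _ fun x hx => ?_
    obtain ⟨f, hf, t, ht, e⟩ := exists_smul_eq_of_mem_span hU hx P (h x hx)
    obtain ⟨g, hg, hgs⟩ := (StalkLoc.Basic.germ_eq_zero_iff hU hx (f • s - t)).mp (by
      rw [map_sub, Modules.StalkModule.germ_smul, e, sub_self])
    refine ⟨g * f, ?_, by rw [Scheme.basicOpen_mul]; exact ⟨hg, hf⟩⟩
    rw [smul_sub, sub_eq_zero, smul_smul] at hgs
    change (g * f) • s ∈ P
    rw [hgs]
    exact P.smul_mem g ht
  have h1 : (1 : Γ(X, U)) ∈ P.comap (LinearMap.toSpanSingleton Γ(X, U) Γ(M, U) s) := by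
    rw [htop]; trivial
  simpa using h1

/-- Sections spanning all stalks span the sections on an affine open. -/
lemma span_eq_top_of_germ [M.IsQuasicoherent] (hU : IsAffineOpen U) (S : Set Γ(M, U))
    (h : ∀ (x : X) (hx : x ∈ U),
      Submodule.span (X.presheaf.stalk x) (M.presheaf.germ U x hx '' S) = ⊤) :
    Submodule.span Γ(X, U) S = ⊤ :=
  eq_top_iff.mpr fun s _ => mem_of_germ_mem hU _ s fun x hx =>
    Submodule.span_mono (Set.image_mono Submodule.subset_span) (h x hx ▸ trivial)

/-- Generators of the sections on an affine open span all stalks. -/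
lemma germ_span_eq_top [M.IsQuasicoherent] (hU : IsAffineOpen U) (S : Set Γ(M, U))
    (hS : Submodule.span Γ(X, U) S = ⊤) {x : X} (hx : x ∈ U) :
    Submodule.span (X.presheaf.stalk x) (M.presheaf.germ U x hx '' S) = ⊤ := by
  refine eq_top_iff.mpr fun v _ => ?_
  obtain ⟨f, t, hf, e⟩ := StalkLoc.Basic.exists_smul_eq_germ hU hx v
  have key : ∀ t ∈ Submodule.span Γ(X, U) S, M.presheaf.germ U x hx t ∈
      Submodule.span (X.presheaf.stalk x) (M.presheaf.germ U x hx '' S) := by
    intro t ht
    induction ht using Submodule.span_induction with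
    | mem t ht => exact Submodule.subset_span ⟨t, ht, rfl⟩
    | zero => rw [map_zero]; exact Submodule.zero_mem _
    | add _ _ _ _ h₁ h₂ => rw [map_add]; exact Submodule.add_mem _ h₁ h₂
    | smul r t _ h => rw [Modules.StalkModule.germ_smul]; exact Submodule.smul_mem _ _ h
  have := key t (hS ▸ trivial)
  rw [← e] at this
  exact (Submodule.smul_mem_iff_of_isUnit _ ((X.mem_basicOpen f x hx).mp hf)).mp this

/-- A module of finite type has finite sections on every affine open. -/
theorem finite_sections [M.IsQuasicoherent] [SheafOfModules.IsFiniteType (R := X.ringCatSheaf) M]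
    (hU : IsAffineOpen U) : Module.Finite Γ(X, U) Γ(M, U) := by
  have loc : ∀ x : U, ∃ f : Γ(X, U), x.1 ∈ X.basicOpen f ∧ ∃ S : Finset Γ(M, U),
      ∀ (y : X) (hy : y ∈ U), y ∈ X.basicOpen f →
        Submodule.span (X.presheaf.stalk y) (M.presheaf.germ U y hy '' (S : Set Γ(M, U))) = ⊤ := by
    rintro ⟨x, hx⟩
    obtain ⟨W, hxW, n, s, hs⟩ := Modules.GenStalk.exists_span_stalk_of_isFiniteType M x
    obtain ⟨f, hfW, hxf⟩ := hU.exists_basicOpen_le (⟨x, hxW⟩ : W) hx
    choose m t ht using fun i => (QCoh.Localizing.localizes_of_isAffineOpen M hU f).ext'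
      (QCoh.Localizing.res M hfW (s i))
    classical
    refine ⟨f, hxf, Finset.univ.image t, fun y hy hyf => ?_⟩
    rw [eq_top_iff, ← hs y (hfW hyf), Submodule.span_le]
    rintro _ ⟨i, rfl⟩
    have hu : IsUnit (X.presheaf.germ (X.basicOpen f) y hyf
        (QCoh.Localizing.resR (X.basicOpen_le f) f) ^ m i) := by
      refine IsUnit.pow _ ?_
      rw [show X.presheaf.germ (X.basicOpen f) y hyf (QCoh.Localizing.resR (X.basicOpen_le f) f) =
        X.presheaf.germ U y hy f from TopCat.Presheaf.germ_res_apply _ _ _ hyf f]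
      exact (X.mem_basicOpen f y hy).mp hyf
    refine (Submodule.smul_mem_iff_of_isUnit _ hu).mp ?_
    have h1 : M.presheaf.germ U y hy (t i) = X.presheaf.germ (X.basicOpen f) y hyf
        (QCoh.Localizing.resR (X.basicOpen_le f) f) ^ m i • M.presheaf.germ W y (hfW hyf) (s i) := by
      rw [← TopCat.Presheaf.germ_res_apply M.presheaf (homOfLE (X.basicOpen_le f)) y hyf (t i)]
      erw [ht i]
      rw [Modules.StalkModule.germ_smul, map_pow]
      congr 1
      exact TopCat.Presheaf.germ_res_apply _ _ _ hyf _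
    rw [← h1]
    exact Submodule.subset_span ⟨t i, by simp, rfl⟩
  choose f hf S hS using loc
  obtain ⟨F, hF⟩ := hU.isCompact.elim_finite_subcover (fun x : U => (X.basicOpen (f x) : Set X))
    (fun x => (X.basicOpen (f x)).2) fun y hy => Set.mem_iUnion.mpr ⟨⟨y, hy⟩, hf ⟨y, hy⟩⟩
  classical
  refine ⟨⟨F.biUnion S, span_eq_top_of_germ hU _ fun y hy => ?_⟩⟩
  obtain ⟨x, hxF, hyx⟩ := Set.mem_iUnion₂.mp (hF hy)
  rw [eq_top_iff, ← hS x y hy hyx]
  refine Submodule.span_mono (Set.image_mono fun s hs => ?_)
  exact Finset.mem_biUnion.mpr ⟨x, hxF, hs⟩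

/-- Finitely many global sections spanning all stalks give generating sections. -/
lemma exists_generatingSections {n : ℕ} (t : Fin n → Γ(M, ⊤))
    (h : ∀ x : X, Submodule.span (X.presheaf.stalk x)
      (Set.range fun i => M.presheaf.germ ⊤ x trivial (t i)) = ⊤) :
    ∃ σ : SheafOfModules.GeneratingSections (R := X.ringCatSheaf) M, σ.IsFiniteType := by
  let s : ULift.{u} (Fin n) → SheafOfModules.sections (R := X.ringCatSheaf) M := fun i =>
    SheafOfModules.unitHomEquiv M (Modules.Free.unitHom M (t i.down))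
  let F₀ : X.Modules := SheafOfModules.free (R := X.ringCatSheaf) (ULift.{u} (Fin n))
  let π : F₀ ⟶ M :=
    (SheafOfModules.freeHomEquiv M).symm s
  have hπ : ∀ i : ULift.{u} (Fin n), SheafOfModules.ιFree i ≫ π =
      Modules.Free.unitHom M (t i.down) := fun i =>
    (SheafOfModules.unitHomEquiv M).injective
      (congrFun ((SheafOfModules.freeHomEquiv M).apply_symm_apply s) i)
  have hepi : Epi π := (Modules.Stalk.epi_iff_stalk_surjective π).mpr fun x => by
    suffices hr : LinearMap.range (Modules.StalkModule.stalkMapₗ π x) = ⊤ from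
      LinearMap.range_eq_top.mp hr
    rw [eq_top_iff, ← h x, Submodule.span_le]
    rintro _ ⟨i, rfl⟩
    let ι₀ : Coh.structureModule X ⟶ F₀ :=
      SheafOfModules.ιFree (R := X.ringCatSheaf) (ULift.up i)
    refine ⟨Modules.StalkModule.stalkMapₗ ι₀ x
      ((Coh.structureModule X).presheaf.germ ⊤ x trivial (1 : Γ(X, ⊤))), ?_⟩
    rw [← LinearMap.comp_apply, ← Modules.StalkModule.stalkMapₗ_comp, show ι₀ ≫ π = _ from hπ _]
    refine (Modules.StalkModule.stalkMapₗ_germ _ _ _).trans ?_
    exact congrArg _ (Modules.Free.unitHom_app_one M _)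
  refine ⟨⟨ULift.{u} (Fin n), s, ⟨fun a b e => hepi.left_cancellation a b e⟩⟩, ⟨?_⟩⟩
  exact inferInstanceAs (Finite (ULift.{u} (Fin n)))

/-- A quasi-coherent module with finite sections on small affine opens is of finite type. -/
theorem isFiniteType_of_finite_sections [M.IsQuasicoherent]
    (h : ∀ x : X, ∃ U : X.Opens, IsAffineOpen U ∧ x ∈ U ∧ Module.Finite Γ(X, U) Γ(M, U)) :
    SheafOfModules.IsFiniteType (R := X.ringCatSheaf) M := by
  choose U hU hx hfin using h
  have hgen : ∀ x : X, ∃ σ : ((show SheafOfModules X.ringCatSheaf from M).over (U x)).GeneratingSections,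
      σ.IsFiniteType := by
    intro x
    obtain ⟨n, t, ht⟩ := @Module.Finite.exists_fin Γ(X, U x) Γ(M, U x) _ _ _ (hfin x)
    have htop : (U x).ι ''ᵁ ⊤ = U x := (U x).ι_image_top
    obtain ⟨σ, hσ⟩ := exists_generatingSections (M := M.restrict (U x).ι)
      (fun i => M.presheaf.map (eqToHom htop).op (t i)) fun y => by
        have h1 := germ_span_eq_top (hU x) _ ht (x := (U x).ι y) y.2
        have h2 := Modules.StalkRestrict.span_image_restrictStalkAddEquiv (U x).ι M y
          (Set.range fun i => (M.restrict (U x).ι).presheaf.germ ⊤ y trivial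
            (M.presheaf.map (eqToHom htop).op (t i)))
        refine eq_top_iff.mpr fun v _ => ?_
        obtain ⟨w, hw, e⟩ : Modules.StalkRestrict.restrictStalkAddEquiv (U x).ι M y v ∈
            Modules.StalkRestrict.restrictStalkAddEquiv (U x).ι M y ''
              (Submodule.span _ (Set.range fun i => (M.restrict (U x).ι).presheaf.germ ⊤ y trivial
                (M.presheaf.map (eqToHom htop).op (t i))) : Set _) := by
          have h3 : Modules.StalkRestrict.restrictStalkAddEquiv (U x).ι M y v ∈
              Submodule.span (X.presheaf.stalk ((U x).ι y))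
                (M.presheaf.germ (U x) ((U x).ι y) y.2 '' Set.range t) := h1 ▸ trivial
          refine (Set.ext_iff.mp h2 _).mp ?_
          refine Submodule.span_mono ?_ h3
          rintro _ ⟨_, ⟨i, rfl⟩, rfl⟩
          refine ⟨_, ⟨i, rfl⟩, ?_⟩
          refine (Modules.StalkRestrict.restrictStalkAddEquiv_germ (U x).ι M (U := ⊤) trivial _).trans ?_
          exact TopCat.Presheaf.germ_res_apply _ _ _ _ _
        rwa [(Modules.StalkRestrict.restrictStalkAddEquiv (U x).ι M y).injective e] at hw
    let E := Scheme.Modules.overEquiv (U x)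
    let F : SheafOfModules.{u} (U x : Scheme.{u}).ringCatSheaf ⥤
        SheafOfModules.{u} (X.ringCatSheaf.over (U x)) := E.inverse
    haveI : PreservesColimitsOfSize.{u, u} F :=
      Adjunction.leftAdjoint_preservesColimits.{u, u} E.symm.toAdjunction
    let e (N : X.Modules) : E.inverse.obj (N.restrict (U x).ι) ≅ SheafOfModules.over N (U x) :=
      E.inverse.mapIso ((Scheme.Modules.overFunctorEquiv (U x)).app N).symm ≪≫
        (E.unitIso.app (SheafOfModules.over N (U x))).symm
    let η := (E.inverse.mapIso (Scheme.Modules.restrictUnitIso (U x).ι).symm ≪≫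
      e (SheafOfModules.unit X.ringCatSheaf)).symm
    haveI := hσ
    haveI : Finite σ.I := hσ.finite
    let τ := σ.map F η
    haveI : Finite τ.I := inferInstanceAs (Finite σ.I)
    exact ⟨τ.ofEpi (e M).hom, ⟨inferInstanceAs (Finite τ.I)⟩⟩
  choose σ hσ using hgen
  exact SheafOfModules.IsFiniteType.mk (C := X.Opens) (R := X.ringCatSheaf) (M := M)
    ⟨{ I := X
       X := U
       coversTop := (Opens.coversTop_iff _ _).mpr
         (eq_top_iff.mpr fun x _ ↦ Opens.mem_iSup.mpr ⟨x, hx x⟩)
       generators := σ }, by constructor; exact hσ⟩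

end Groth.Agent.Lib.CohBasics.Affine
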